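import Mathlib.Algebra.Homology.DerivedCategory.Fractions
import Mathlib.Algebra.Homology.HomotopyCofiber
import Mathlib.Algebra.Homology.HomotopyCategory.Plus

/-!
Homotopies from a strictly bounded above complex into a complex factor through the canonical
truncation.
-/

set_option autoImplicit false
universe v u

open CategoryTheory CategoryTheory.Limits HomologicalComplex

namespace Groth.Agent.Helper18

variable {A : Type u} [Category.{v} A] [Abelian A]

lemma isStrictlyLE_cylinder (K : CochainComplex A ℤ) (n : ℤ) [K.IsStrictlyLE n] :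
    CochainComplex.IsStrictlyLE (cylinder K) n := by
  rw [CochainComplex.isStrictlyLE_iff]
  intro i hi
  dsimp [cylinder]
  refine homotopyCofiber.isZero_X _ _ ?_ (fun j hj ↦ ?_)
  · refine IsZero.of_iso ?_ ((HomologicalComplex.eval A (.up ℤ) i).mapBiprod _ _)
    simpa using K.isZero_of_isStrictlyLE n i
  · simp only [ComplexShape.up_Rel] at hj
    exact K.isZero_of_isStrictlyLE n _ (by lia)

/-- a homotopy after composing with `ιTruncLE` comes from a homotopy before -/
noncomputable def homotopyOfCompιTruncLE (K W : CochainComplex A ℤ) (n : ℤ) [K.IsStrictlyLE n]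
    (g₁ g₂ : K ⟶ CochainComplex.truncLE W n)
    (h : Homotopy (g₁ ≫ CochainComplex.ιTruncLE W n) (g₂ ≫ CochainComplex.ιTruncLE W n)) :
    Homotopy g₁ g₂ := by
  haveI := isStrictlyLE_cylinder K n
  haveI : Mono (CochainComplex.ιTruncLE W n) := by
    dsimp [CochainComplex.ιTruncLE]; infer_instance
  let H : cylinder K ⟶ W := cylinder.desc _ _ h
  let H' : cylinder K ⟶ CochainComplex.truncLE W n :=
    inv (CochainComplex.ιTruncLE (cylinder K) n) ≫ CochainComplex.truncLEMap H n
  have hH' : H' ≫ CochainComplex.ιTruncLE W n = H := by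
    simp only [H', Category.assoc, CochainComplex.ιTruncLE_naturality, IsIso.inv_hom_id_assoc]
  have h0 : cylinder.ι₀ K ≫ H' = g₁ := by
    rw [← cancel_mono (CochainComplex.ιTruncLE W n), Category.assoc, hH']
    exact cylinder.ι₀_desc _ _ h
  have h1 : cylinder.ι₁ K ≫ H' = g₂ := by
    rw [← cancel_mono (CochainComplex.ιTruncLE W n), Category.assoc, hH']
    exact cylinder.ι₁_desc _ _ h
  have hc : ∀ j : ℤ, ∃ i, (ComplexShape.up ℤ).Rel i j := fun j => ⟨j - 1, by simp⟩
  exact (Homotopy.ofEq h0.symm).trans (((cylinder.homotopy₀₁ K hc).compRight H').trans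
    (Homotopy.ofEq h1))

end Groth.Agent.Helper18
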